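import Cfsg.Agent.OddHalf.D4.NC.Base
import Cfsg.Agent.KFacts.MulCo.CoZero
import Cfsg.Agent.KFacts.MulSpor.NoDbl

/-!
# Noncyclic centres: `Co1`
-/

set_option autoImplicit false

namespace Cfsg.Agent.OddHalf.D4.NC.Co1

open Subgroup Cfsg Cfsg.Agent.OddHalf.D9.Cut Cfsg.Agent.OddHalf.D4.MultOf Cfsg.Agent.OddHalf.D4.Cut

universe u

theorem co1 : NonCyc.{u} (fun X _ => Spor.IsoCo1 X) :=
  NonCyc.of_oneCover fun _ _ hX => Cfsg.Agent.KFacts.MulBaer.OneCover.congr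
    (Cfsg.Agent.KFacts.MulCo.CoZero.oneCover Cfsg.Agent.KFacts.MulSpor.NoDbl.M24) hX.some.symm

end Cfsg.Agent.OddHalf.D4.NC.Co1
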