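import Cfsg.Agent.OddHalf.D4.NC.Base
import Cfsg.Agent.KFacts.Mult.TwESixTwo

/-!
# Noncyclic centres: `²E₆(2)`
-/

set_option autoImplicit false

namespace Cfsg.Agent.OddHalf.D4.NC.E62

open Subgroup Cfsg Cfsg.Agent.OddHalf.D9.Cut Cfsg.Agent.OddHalf.D4.MultOf Cfsg.Agent.OddHalf.D4.Cut

universe u

theorem e62 : BdAll.{u} (fun X _ => X2E62 X) := fun _ _ hf hq h2 hX =>
  haveI := hf
  (Cfsg.Agent.KFacts.Mult.TwESixTwo.center_elem hq h2 hX).2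

end Cfsg.Agent.OddHalf.D4.NC.E62
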