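import Cfsg.Agent.OddHalf.D4.NC.Base
import Cfsg.Agent.OddHalf.D9.FFour.MultTwo

/-!
# Noncyclic centres: `F₄(2)`
-/

set_option autoImplicit false

namespace Cfsg.Agent.OddHalf.D4.NC.F42

open Subgroup Cfsg Cfsg.Agent.OddHalf.D9.Cut Cfsg.Agent.OddHalf.D4.MultOf Cfsg.Agent.OddHalf.D4.Cut

universe u

theorem f42 : NonCyc.{u} (fun X _ => XF42 X) :=
  Base.of_le_two fun _ _ _ hK _ hX =>
    Nat.le_of_dvd (by norm_num) (Cfsg.Agent.OddHalf.D9.FFour.MultTwo.card_center hK hX)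

end Cfsg.Agent.OddHalf.D4.NC.F42
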