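import Cfsg.Agent.OddHalf.D4.NC.Base
import Cfsg.Agent.KFacts.MulP.MTwelve

/-!
# Noncyclic centres: `M12`
-/

set_option autoImplicit false

namespace Cfsg.Agent.OddHalf.D4.NC.M12

open Subgroup Cfsg Cfsg.Agent.OddHalf.D9.Cut Cfsg.Agent.OddHalf.D4.MultOf Cfsg.Agent.OddHalf.D4.Cut

universe u

theorem m12 : NonCyc.{u} (fun X _ => Spor.IsoM12 X) :=
  Base.of_le_two fun K _ _ hK h2 hX => Cfsg.Agent.KFacts.MulP.MTwelve.card_le hK (center K) le_rfl h2 hX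

end Cfsg.Agent.OddHalf.D4.NC.M12
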