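import Cfsg.Agent.OddHalf.D4.NC.Base
import Cfsg.Agent.KFacts.OddLift.SuzCov

/-!
# Noncyclic centres: `Suz`
-/

set_option autoImplicit false

namespace Cfsg.Agent.OddHalf.D4.NC.Suz

open Subgroup Cfsg Cfsg.Agent.OddHalf.D9.Cut Cfsg.Agent.OddHalf.D4.MultOf Cfsg.Agent.OddHalf.D4.Cut

universe u

theorem suz : NonCyc.{u} (fun X _ => Spor.IsoSuz X) :=
  Base.of_ker fun _ _ hX _ _ _ hK _ hf hZ => Cfsg.Agent.KFacts.OddLift.SuzCov.not_four_dvd hX.some hK hf hZ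

end Cfsg.Agent.OddHalf.D4.NC.Suz
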