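import Cfsg.Agent.OddHalf.D4.NC.Base
import Cfsg.Agent.KFacts.Mult.SzEight

/-!
# Noncyclic centres: `Sz(8)`
-/

set_option autoImplicit false

namespace Cfsg.Agent.OddHalf.D4.NC.Sz8

open Subgroup Cfsg Cfsg.Agent.OddHalf.D9.Cut Cfsg.Agent.OddHalf.D4.MultOf Cfsg.Agent.OddHalf.D4.Cut

universe u

theorem sz8 : ∀ (K : Type u) [Group K], Finite K → IsQuasisimple K → IsPGroup 2 ↥(center K) → XSz8 (K ⧸ center K) →
    (∀ z ∈ center K, z * z = 1) ∧ Nat.card ↥(center K) ∣ 4 := fun _ _ hf hq h2 hX => by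
  haveI := hf
  obtain ⟨F, i1, i2, hF, ⟨e⟩⟩ := hX
  exact Cfsg.Agent.KFacts.Mult.SzEight.center_elem hq.1.commutator_eq_top h2 ⟨F, i1, i2, hF, ⟨e⟩⟩

end Cfsg.Agent.OddHalf.D4.NC.Sz8
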