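import Cfsg.Agent.OddHalf.D4.NC.HS
import Cfsg.Agent.OddHalf.D4.NC.Fi22
import Cfsg.Agent.OddHalf.D4.NC.Baby
import Cfsg.Agent.OddHalf.D4.NC.Co1
import Cfsg.Agent.OddHalf.D4.NC.Suz
import Cfsg.Agent.OddHalf.D4.NC.Sp62
import Cfsg.Agent.OddHalf.D4.NC.F42
import Cfsg.Agent.OddHalf.D4.NC.J2
import Cfsg.Agent.OddHalf.D4.NC.M12
import Cfsg.Agent.OddHalf.D4.NC.G24
import Cfsg.Agent.OddHalf.D4.NC.E62
import Cfsg.Agent.OddHalf.D4.NC.O82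
import Cfsg.Agent.OddHalf.D4.NC.Sz8
import Cfsg.Agent.KFacts.MulM22.NonCyc

/-!
# `NCRows` and `VRows` from the multiplier files

Open: `Ru`, `U₆(2)`, `Sz(q)` for `q > 8`.
-/

set_option autoImplicit false

namespace Cfsg.Agent.OddHalf.D4.NC.Inst

open Subgroup Cfsg Cfsg.Agent.OddHalf.D9.Cut Cfsg.Agent.OddHalf.D4.MultOf Cfsg.Agent.OddHalf.D4.Cut

universe u

theorem ncRows (hru : NonCyc.{u} (fun X _ => Spor.IsoRu X)) : NCRows.{u} where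
  sp62 := Sp62.sp62
  g24 := G24.g24
  f42 := F42.f42
  m12 := M12.m12
  j2 := J2.j2
  hs := HS.hs
  suz := Suz.suz
  ru := hru
  fi22 := Fi22.fi22
  co1 := Co1.co1
  b := Baby.b
  m22 := Cfsg.Agent.KFacts.MulM22.NonCyc.nonCyc_m22

theorem vRows (hu62 : BdAll.{u} (fun X _ => XU62 X))
    (hbig : ∀ (F : Type) [Field F] [Fintype F] (m : ℕ), 2 ≤ m → Fintype.card F = 2 ^ (2 * m + 1) →
      Cfsg.Agent.KFacts.MulDef.NoDouble ↥(Lie.Sz F (2 ^ (m + 1)))) : VRows.{u} where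
  u62 := hu62
  o82 := O82.o82
  e62 := E62.e62
  sz8 := Sz8.sz8
  szBig := hbig

end Cfsg.Agent.OddHalf.D4.NC.Inst
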