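import Cfsg.Agent.OddHalf.D4.MultOf

/-!
# Noncyclic centres: forms of the hypothesis
-/

set_option autoImplicit false
set_option linter.style.haveILetI false

namespace Cfsg.Agent.OddHalf.D4.NC.Base

open Subgroup Cfsg Cfsg.Agent.OddHalf.D4.MultOf Cfsg.Agent.OddHalf.D4.Cut

universe u v

/-- from a bound for all homomorphisms -/
theorem of_ker {P : (X : Type u) → [Group X] → Prop}
    (h : ∀ (X : Type u) [Group X], P X → ∀ (K : Type u) [Group K] [Finite K], commutator K = ⊤ → ∀ f : K →* X,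
      Function.Surjective f → f.ker ≤ center K → ¬ 4 ∣ Nat.card f.ker) : NonCyc.{u} P := by
  intro K _ hK hP
  haveI := hK.1
  apply hK.2.2.2
  apply cyclic_of_not_four hK.2.2.1
  have h1 := h _ hP K hK.2.1.1.commutator_eq_top (QuotientGroup.mk' (center K)) (QuotientGroup.mk'_surjective _)
    (by rw [QuotientGroup.ker_mk'])
  rwa [QuotientGroup.ker_mk'] at h1

/-- from `|Z(K)| ≤ 2` -/
theorem of_le_two {P : (X : Type u) → [Group X] → Prop}
    (h : ∀ (K : Type u) [Group K] [Finite K], commutator K = ⊤ → IsPGroup 2 ↥(center K) → P (K ⧸ center K) →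
      Nat.card ↥(center K) ≤ 2) : NonCyc.{u} P := by
  intro K _ hK hP
  haveI := hK.1
  apply hK.2.2.2
  apply cyclic_of_not_four hK.2.2.1
  intro h4
  have h1 := Nat.le_of_dvd Nat.card_pos h4
  have h2 := h K hK.2.1.1.commutator_eq_top hK.2.2.1 hP
  omega

/-- from `|Z(K)| ≤ 4` -/
theorem bdAll_of_le {P : (X : Type u) → [Group X] → Prop}
    (h : ∀ (K : Type u) [Group K] [Finite K], commutator K = ⊤ → IsPGroup 2 ↥(center K) → P (K ⧸ center K) →
      Nat.card ↥(center K) ≤ 4) : BdAll.{u} P := by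
  intro K _ hf hq h2 hP
  haveI : Fact (Nat.Prime 2) := ⟨Nat.prime_two⟩
  have h1 := h K hq.1.commutator_eq_top h2 hP
  obtain ⟨n, hn⟩ := IsPGroup.iff_card.1 h2
  rw [hn] at h1 ⊢
  have h3 : n ≤ 2 := by
    by_contra hlt
    have h4 : 2 ^ 3 ≤ 2 ^ n := Nat.pow_le_pow_right (by norm_num) (by omega)
    omega
  exact pow_dvd_pow 2 h3

end Cfsg.Agent.OddHalf.D4.NC.Base
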