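import Cfsg.Agent.OddHalf.D4.NC.Base
import Cfsg.Agent.KFacts.MulSpor.HS

/-!
# Noncyclic centres: `HS`
-/

set_option autoImplicit false

namespace Cfsg.Agent.OddHalf.D4.NC.HS

open Subgroup Cfsg Cfsg.Agent.OddHalf.D9.Cut Cfsg.Agent.OddHalf.D4.MultOf Cfsg.Agent.OddHalf.D4.Cut

universe u

theorem hs : NonCyc.{u} (fun X _ => Spor.IsoHS X) :=
  NonCyc.of_oneCover fun _ _ hX => Cfsg.Agent.KFacts.MulSpor.HS.oneCover_of_equiv hX.some

end Cfsg.Agent.OddHalf.D4.NC.HS
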