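import Cfsg.Agent.OddHalf.D4.NC.Base
import Cfsg.Agent.KFacts.MulP.MTwentyTwoSq

/-!
# Noncyclic centres: `M22`
-/

set_option autoImplicit false
set_option linter.style.haveILetI false

namespace Cfsg.Agent.OddHalf.D4.NC.M22

open Subgroup Cfsg Cfsg.Agent.OddHalf.D9.Cut Cfsg.Agent.OddHalf.D4.MultOf Cfsg.Agent.OddHalf.D4.Cut
open Cfsg.Agent.KFacts.OddLift.Basic

universe u

theorem m22 : NonCyc.{u} (fun X _ => Spor.IsoM22 X) := by
  intro K _ hK hX
  haveI := hK.1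
  haveI : Fact (Nat.Prime 2) := ⟨Nat.prime_two⟩
  have hcomm := hK.2.1.1.commutator_eq_top
  have h2 := hK.2.2.1
  have h4 := Cfsg.Agent.KFacts.MulP.MTwentyTwo.card_le hcomm (center K) le_rfl h2 hX
  obtain ⟨n, hn⟩ := IsPGroup.iff_card.1 h2
  have hn2 : n ≤ 2 := by
    rw [hn, show 4 = 2 ^ 2 by norm_num] at h4
    exact (Nat.pow_le_pow_iff_right (by norm_num)).1 h4
  have hd : Nat.card ↥(center K) ∣ 4 := by
    rw [hn, show 4 = 2 ^ 2 by norm_num]
    exact pow_dvd_pow 2 hn2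
  have hkl := klein_of_dvd h2 hK.2.2.2 hd
  have hk := QuotientGroup.ker_mk' (center K)
  have hc : Cov (QuotientGroup.mk' (center K)) :=
    ⟨QuotientGroup.mk'_surjective _, by rw [hk], by rw [hk]; exact h2, hcomm⟩
  have h5 := Cfsg.Agent.KFacts.MulP.MTwentyTwoSq.card_ker_le_two_of_sq hX hc (by
    rw [hk]
    intro z hz
    have h6 : (⟨z, hz⟩ : center K) * ⟨z, hz⟩ = 1 := IsKleinFour.mul_self _
    exact congrArg Subtype.val h6)
  rw [hk] at h5
  have h7 := hkl.card_four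
  omega

end Cfsg.Agent.OddHalf.D4.NC.M22
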