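import Cfsg.Agent.OddHalf.D4.NC.Base
import Cfsg.Agent.KFacts.OddLift.OEight

/-!
# Noncyclic centres: `Ω₈⁺(2)`
-/

set_option autoImplicit false

namespace Cfsg.Agent.OddHalf.D4.NC.O82

open Subgroup Cfsg Cfsg.Agent.OddHalf.D9.Cut Cfsg.Agent.OddHalf.D4.MultOf Cfsg.Agent.OddHalf.D4.Cut

universe u

theorem o82 : BdAll.{u} (fun X _ => XO82 X) :=
  Base.bdAll_of_le fun K _ _ hK h2 hX => by
    obtain ⟨F, _, _, hF, ⟨e⟩⟩ := hX
    exact (Cfsg.Agent.KFacts.OddLift.OEight.card_le hK (center K) le_rfl h2 hF e).2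

end Cfsg.Agent.OddHalf.D4.NC.O82
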