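import Cfsg.Agent.OddHalf.D4.NC.Base
import Cfsg.Agent.KFacts.RuDbl.One

/-!
# Noncyclic centres: `Ru`
-/

set_option autoImplicit false

namespace Cfsg.Agent.OddHalf.D4.NC.Ru

open Subgroup Cfsg Cfsg.Agent.OddHalf.D9.Cut Cfsg.Agent.OddHalf.D4.MultOf Cfsg.Agent.OddHalf.D4.Cut

universe u

theorem ru : NonCyc.{u} (fun X _ => Spor.IsoRu X) :=
  NonCyc.of_oneCover fun _ _ ⟨e⟩ =>
    Cfsg.Agent.KFacts.MulBaer.OneCover.congr Cfsg.Agent.KFacts.RuDbl.One.oneCover_spor e.symm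

end Cfsg.Agent.OddHalf.D4.NC.Ru
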